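import Groth.Prelude.Def_CInt
import Groth.Agent.SchDenseLib.Ext
import Groth.Agent.S3844
import Mathlib

/-! Extending morphisms to separated schemes across schematically dense opens. -/

set_option autoImplicit false
universe u
open CategoryTheory CategoryTheory.Limits AlgebraicGeometry

namespace NeronDescLib

theorem dense_restrict {X : Scheme.{u}} (W U : X.Opens) (h : CInt.IsSchematicallyDense U) :
    CInt.IsSchematicallyDense (W.ι ⁻¹ᵁ U) := by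
  intro V
  rw [injective_iff_map_eq_zero]
  intro s hs
  have hle : W.ι ''ᵁ V ⊓ U ≤ W.ι ''ᵁ (V ⊓ W.ι ⁻¹ᵁ U) := by
    rintro x ⟨⟨v, hv, rfl⟩, hxU⟩
    exact ⟨v, ⟨hv, hxU⟩, rfl⟩
  refine h (W.ι ''ᵁ V) (Eq.trans ?_ (map_zero _).symm)
  have h1 : X.presheaf.map (homOfLE (Scheme.Hom.image_mono W.ι (inf_le_left : V ⊓ W.ι ⁻¹ᵁ U ≤ V))).op s = 0 := hs
  have h2 := (congrArg (X.presheaf.map (homOfLE hle).op).hom h1).trans (map_zero _)
  rw [← h2]
  exact congrArg (fun φ => CommRingCat.Hom.hom φ s)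
    (X.presheaf.map_comp (homOfLE (Scheme.Hom.image_mono W.ι inf_le_left)).op (homOfLE hle).op)

/-- Maps out of an open subscheme to a separated scheme which agree on a schematically dense open are equal. -/
theorem ext_on_open {X Y S : Scheme.{u}} (pY : Y ⟶ S) [IsSeparated pY] {U : X.Opens}
    (hU : CInt.IsSchematicallyDense U) {O : X.Opens} {f g : (O : Scheme.{u}) ⟶ Y} (h : f ≫ pY = g ≫ pY)
    (hι : X.homOfLE (inf_le_right : U ⊓ O ≤ O) ≫ f = X.homOfLE (inf_le_right : U ⊓ O ≤ O) ≫ g) : f = g := by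
  refine SchDenseLib.ext_of_isSchematicallyDense (O.ι ⁻¹ᵁ U) (dense_restrict O U hU) pY h ?_
  have hr : Set.range ((O.ι ⁻¹ᵁ U).ι ≫ O.ι).base ⊆ Set.range (U ⊓ O).ι.base := by
    rintro _ ⟨z, rfl⟩
    rw [Scheme.Opens.range_ι]
    exact ⟨z.2, z.1.2⟩
  let t := IsOpenImmersion.lift (U ⊓ O).ι ((O.ι ⁻¹ᵁ U).ι ≫ O.ι) hr
  have ht : (O.ι ⁻¹ᵁ U).ι = t ≫ X.homOfLE (inf_le_right : U ⊓ O ≤ O) := by
    rw [← cancel_mono O.ι, Category.assoc, X.homOfLE_ι, IsOpenImmersion.lift_fac]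
  rw [ht, Category.assoc, Category.assoc, hι]

/-- Local extensions across a schematically dense open glue to a global one. -/
theorem exists_glue {X Y S : Scheme.{u}} (pX : X ⟶ S) (pY : Y ⟶ S) [IsSeparated pY] {U : X.Opens}
    (hU : CInt.IsSchematicallyDense U) (h : (U : Scheme.{u}) ⟶ Y) (hh : h ≫ pY = U.ι ≫ pX)
    (H : ∀ x : X, ∃ (V : X.Opens) (v : (V : Scheme.{u}) ⟶ Y), x ∈ V ∧ v ≫ pY = V.ι ≫ pX ∧
      X.homOfLE (inf_le_right : U ⊓ V ≤ V) ≫ v = X.homOfLE (inf_le_left : U ⊓ V ≤ U) ≫ h) :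
    ∃ f : X ⟶ Y, f ≫ pY = pX ∧ U.ι ≫ f = h := by
  choose V v hx hv hag using H
  let 𝒰 : X.OpenCover := X.openCoverOfIsOpenCover V (.mk (eq_top_iff.mpr fun x _ =>
    TopologicalSpace.Opens.mem_iSup.mpr ⟨x, hx x⟩))
  have hcomp : ∀ a b, X.homOfLE (inf_le_left : V a ⊓ V b ≤ V a) ≫ v a =
      X.homOfLE (inf_le_right : V a ⊓ V b ≤ V b) ≫ v b := fun a b => by
    refine ext_on_open pY hU (by simp [hv]) ?_
    have ha := congrArg (X.homOfLE (inf_le_inf_left U inf_le_left : U ⊓ (V a ⊓ V b) ≤ U ⊓ V a) ≫ ·) (hag a)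
    have hb := congrArg (X.homOfLE (inf_le_inf_left U inf_le_right : U ⊓ (V a ⊓ V b) ≤ U ⊓ V b) ≫ ·) (hag b)
    simp only [← Category.assoc, Scheme.homOfLE_homOfLE] at ha hb ⊢
    exact ha.trans hb.symm
  have hcomp' : ∀ a b, pullback.fst (𝒰.f a) (𝒰.f b) ≫ v a = pullback.snd (𝒰.f a) (𝒰.f b) ≫ v b := fun a b => by
    let p := pullback.fst (V a).ι (V b).ι
    have hr : Set.range (p ≫ (V a).ι).base ⊆ Set.range (V a ⊓ V b).ι.base := by
      rintro _ ⟨z, rfl⟩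
      rw [Scheme.Opens.range_ι]
      refine ⟨(p z).2, ?_⟩
      show (p ≫ (V a).ι) z ∈ V b
      rw [show p ≫ (V a).ι = pullback.snd (V a).ι (V b).ι ≫ (V b).ι from pullback.condition]
      exact (pullback.snd (V a).ι (V b).ι z).2
    let t := IsOpenImmersion.lift (V a ⊓ V b).ι (p ≫ (V a).ι) hr
    have ht : t ≫ (V a ⊓ V b).ι = p ≫ (V a).ι := IsOpenImmersion.lift_fac _ _ _
    have h1 : p = t ≫ X.homOfLE inf_le_left := by rw [← cancel_mono (V a).ι, Category.assoc, X.homOfLE_ι, ht]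
    have h2 : pullback.snd (V a).ι (V b).ι = t ≫ X.homOfLE inf_le_right := by
      rw [← cancel_mono (V b).ι, Category.assoc, X.homOfLE_ι, ht]; exact pullback.condition.symm
    show p ≫ v a = pullback.snd (V a).ι (V b).ι ≫ v b
    rw [h1, h2, Category.assoc, Category.assoc, hcomp a b]
  let F := 𝒰.glueMorphisms v hcomp'
  have hF : ∀ a, (V a).ι ≫ F = v a := fun a => 𝒰.ι_glueMorphisms v hcomp' a
  refine ⟨F, Scheme.hom_ext_of_forall _ _ fun x => ⟨V x, hx x, by rw [← Category.assoc, hF, hv]⟩, ?_⟩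
  refine Scheme.hom_ext_of_forall _ _ fun x => ⟨U.ι ⁻¹ᵁ V (U.ι x), hx (U.ι x), ?_⟩
  have hr : Set.range ((U.ι ⁻¹ᵁ V (U.ι x)).ι ≫ U.ι).base ⊆ Set.range (U ⊓ V (U.ι x)).ι.base := by
    rintro _ ⟨z, rfl⟩
    rw [Scheme.Opens.range_ι]
    exact ⟨z.1.2, z.2⟩
  let t := IsOpenImmersion.lift (U ⊓ V (U.ι x)).ι ((U.ι ⁻¹ᵁ V (U.ι x)).ι ≫ U.ι) hr
  have ht : (U.ι ⁻¹ᵁ V (U.ι x)).ι = t ≫ X.homOfLE inf_le_left := by
    rw [← cancel_mono U.ι, Category.assoc, X.homOfLE_ι, IsOpenImmersion.lift_fac]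
  rw [ht, Category.assoc, Category.assoc, X.homOfLE_ι_assoc, ← hag (U.ι x), ← hF (U.ι x), X.homOfLE_ι_assoc]

end NeronDescLib
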